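import Cfsg.Agent.Lib.LyTwo.Engine

/-!
Kernel evaluation of short words in dense matrices over the field with five elements: the rows of the partial
product are packed with enough bits per entry that no reduction is needed.
-/
set_option autoImplicit false

namespace CfsgLib.LyRep

open CfsgLib.Presented CfsgLib.LyTwo

/-- the unit rows -/
noncomputable def unitRows (B n : ℕ) : List ℕ := (List.range n).map fun i => B ^ i

/-- one more factor on the left -/
noncomputable def stepLeft {β : Type} (T : List ℕ) (A : List ℕ) : (List ℕ → β) → β :=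
  List.rec (motive := fun _ => (List ℕ → β) → β) (fun k => k [])
    (fun a _ ih k => Vec.force (dotRow T a) fun v => ih fun L => k (v :: L)) A

/-- the rows of a product, computed from the right -/
noncomputable def runWord {β : Type} (T0 : List ℕ) (w : List (List ℕ)) : (List ℕ → β) → β :=
  List.rec (motive := fun _ => (List ℕ → β) → β) (fun k => k T0)
    (fun A _ ih k => ih fun T => stepLeft T A k) w

/-- the rows of a product -/
noncomputable def wordRows (T0 : List ℕ) : List (List ℕ) → List ℕ
  | [] => T0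
  | A :: w => A.map (dotRow (wordRows T0 w))

theorem stepLeft_eq {β : Type} (T : List ℕ) : ∀ (A : List ℕ) (k : List ℕ → β), stepLeft T A k = k (A.map (dotRow T))
  | [], _ => rfl
  | a :: A, k => by
    show Vec.force (dotRow T a) (fun v => stepLeft T A fun L => k (v :: L)) = _
    rw [Vec.force_eq, stepLeft_eq T A]
    rfl

theorem runWord_eq {β : Type} (T0 : List ℕ) : ∀ (w : List (List ℕ)) (k : List ℕ → β),
    runWord T0 w k = k (wordRows T0 w)
  | [], _ => rfl
  | A :: w, k => by
    show runWord T0 w (fun T => stepLeft T A k) = _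
    rw [runWord_eq T0 w, stepLeft_eq]
    rfl

/-- the test of the final rows -/
noncomputable def finalTest (B C : ℕ) (i : ℕ) : List ℕ → Bool :=
  fun T => List.rec (motive := fun _ => ℕ → Bool) (fun _ => true)
    (fun t _ ih i => Vec.force (Nat.add t (Nat.mul 4 (Nat.pow B i))) fun X =>
      (Nat.beq (Nat.mod X 5) 0 && Vec.force (Nat.div X 5) fun q => Nat.beq (Nat.land q C) q) && ih (Nat.succ i)) T i

/-- bits per entry -/
def lanesOf (L : ℕ) : ℕ := 10 * L + 5

/-- the test that a word is the identity -/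
noncomputable def wordCheck (n : ℕ) (w : List (List ℕ)) : Bool :=
  Vec.force (lanesOf w.length) fun W =>
  Vec.force (MatCheck.lanes (2 ^ W) (2 ^ (W - 3) - 1) n) fun C =>
    w.all (fun A => Nat.beq A.length n) && Nat.blt C ((2 ^ W) ^ n) &&
    (List.range n).all (fun j => Nat.beq (C / (2 ^ W) ^ j % 2 ^ W) (2 ^ (W - 3) - 1)) &&
    runWord (unitRows (2 ^ W) n) w fun T => finalTest (2 ^ W) C 0 T

theorem finalTest_spec (B C : ℕ) : ∀ (T : List ℕ) (i : ℕ), finalTest B C i T = true → ∀ k < T.length,
    ((T.getD k 0 + 4 * B ^ (i + k)) % 5 = 0 ∧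
      ((T.getD k 0 + 4 * B ^ (i + k)) / 5) &&& C = (T.getD k 0 + 4 * B ^ (i + k)) / 5)
  | [], _, _, k, hk => absurd hk (Nat.not_lt_zero k)
  | t :: T, i, h, k, hk => by
    change (Vec.force (t + 4 * B ^ i) fun X =>
      (Nat.beq (X % 5) 0 && Vec.force (X / 5) fun q => Nat.beq (q &&& C) q) && finalTest B C (i + 1) T) = true at h
    rw [Vec.force_eq, Vec.force_eq, Bool.and_eq_true, Bool.and_eq_true] at h
    cases k with
    | zero => exact ⟨Nat.eq_of_beq_eq_true h.1.1, Nat.eq_of_beq_eq_true h.1.2⟩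
    | succ k =>
      have := finalTest_spec B C T (i + 1) h.2 k (Nat.lt_of_succ_lt_succ hk)
      rw [show i + (k + 1) = i + 1 + k by omega]
      simpa using this

variable {n : ℕ}

/-- the matrix over the natural numbers -/
def natMat (n : ℕ) (A : List ℕ) : Matrix (Fin n) (Fin n) ℕ := fun i j => ent A i j

theorem mat_eq (A : List ℕ) : mat n n A = (Nat.castRingHom (ZMod 5)).mapMatrix (natMat n A) := rfl

theorem wordRows_spec (B : ℕ) (hn : n ≤ 111) : ∀ w : List (List ℕ), (∀ A ∈ w, A.length = n) →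
    (wordRows (unitRows B n) w).length = n ∧ ∀ i : Fin n,
      (wordRows (unitRows B n) w).getD i 0 = ∑ k : Fin n, (w.map (natMat n)).prod i k * B ^ (k : ℕ) ∧
        ∑ k : Fin n, (w.map (natMat n)).prod i k ≤ 1024 ^ w.length
  | [], _ => by
    refine ⟨by simp [wordRows, unitRows], fun i => ⟨?_, ?_⟩⟩
    · simp only [wordRows, List.map_nil, List.prod_nil, unitRows]
      rw [List.getD_eq_getElem _ _ (by simp), List.getElem_map, List.getElem_range, Finset.sum_eq_single i]
      · simp
      · intro b _ hb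
        simp [Matrix.one_apply_ne hb.symm]
      · simp
    · simp [Matrix.one_apply]
  | A :: w, hw => by
    obtain ⟨hlen, ih⟩ := wordRows_spec B hn w fun X hX => hw X (List.mem_cons_of_mem _ hX)
    have hA : A.length = n := hw A List.mem_cons_self
    refine ⟨by simp [wordRows, hA], fun i => ⟨?_, ?_⟩⟩
    · rw [wordRows, List.getD_eq_getElem _ _ (by simp [hA]), List.getElem_map, dotRow_eq, hlen, List.map_cons,
        List.prod_cons, ← Fin.sum_univ_eq_sum_range
          (fun k => A[(i : ℕ)]'(hA ▸ i.2) / 8 ^ k % 8 * (wordRows (unitRows B n) w).getD k 0) n]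
      simp only [Matrix.mul_apply, Finset.sum_mul]
      rw [Finset.sum_comm]
      refine Finset.sum_congr rfl fun k _ => ?_
      rw [(ih k).1, Finset.mul_sum]
      refine Finset.sum_congr rfl fun l _ => ?_
      rw [natMat, ent, List.getD_eq_getElem _ _ (hA ▸ i.2), mul_assoc]
    · rw [List.map_cons, List.prod_cons]
      simp only [Matrix.mul_apply]
      rw [Finset.sum_comm]
      calc ∑ l : Fin n, ∑ k : Fin n, natMat n A i l * (w.map (natMat n)).prod l k
          = ∑ l : Fin n, natMat n A i l * ∑ k : Fin n, (w.map (natMat n)).prod l k := by simp [Finset.mul_sum]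
        _ ≤ ∑ _l : Fin n, 7 * 1024 ^ w.length :=
          Finset.sum_le_sum fun l _ => Nat.mul_le_mul (Nat.le_of_lt_succ (Nat.mod_lt _ (by norm_num))) (ih l).2
        _ ≤ 1024 ^ (A :: w).length := by
          simp only [Finset.sum_const, Finset.card_univ, Fintype.card_fin, smul_eq_mul, List.length_cons, pow_succ]
          nlinarith [Nat.mul_le_mul_right (7 * 1024 ^ w.length) hn, Nat.zero_le (1024 ^ w.length)]

/-- A checked word is the identity. -/
theorem wordCheck_spec (hn : n ≤ 111) {w : List (List ℕ)} (h : wordCheck n w = true) :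
    (w.map (mat n n)).prod = 1 := by
  rw [wordCheck, Vec.force_eq, Vec.force_eq, runWord_eq] at h
  simp only [Bool.and_eq_true, List.all_eq_true, Nat.blt_eq, List.mem_range] at h
  obtain ⟨⟨⟨hlen, hC⟩, hCd⟩, hfin⟩ := h
  set W := lanesOf w.length with hW
  set B := 2 ^ W with hB
  set C := MatCheck.lanes B (2 ^ (W - 3) - 1) n
  obtain ⟨hl, hrows⟩ := wordRows_spec B hn w fun A hA => Nat.eq_of_beq_eq_true (hlen A hA)
  have hprod : (w.map (mat n n)).prod = (Nat.castRingHom (ZMod 5)).mapMatrix (w.map (natMat n)).prod := by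
    rw [map_list_prod, List.map_map]
    rfl
  rw [hprod]
  ext i j
  obtain ⟨hT, hs⟩ := hrows i
  obtain ⟨hmod, hq⟩ := finalTest_spec _ _ _ 0 hfin i (hl.symm ▸ i.2)
  rw [Nat.zero_add, hT] at hmod hq
  set P := (w.map (natMat n)).prod
  let f : ℕ → ℕ := fun k => (if hk : k < n then P i ⟨k, hk⟩ else 0) + if k = (i : ℕ) then 4 else 0
  have hXf : ∑ k : Fin n, P i k * B ^ (k : ℕ) + 4 * B ^ (i : ℕ) = ∑ k ∈ Finset.range n, f k * B ^ k := by
    rw [← Fin.sum_univ_eq_sum_range (fun k => f k * B ^ k) n]
    simp only [f, Fin.is_lt, dite_true, add_mul, Finset.sum_add_distrib]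
    congr 1
    rw [Finset.sum_eq_single i]
    · simp
    · intro b _ hb
      rw [if_neg (fun e => hb (Fin.ext e)), zero_mul]
    · simp
  rw [hXf] at hmod hq
  have hpow : 1024 ^ w.length + 4 < 2 ^ (W - 2) := by
    have h1 : (1024 : ℕ) ^ w.length = 2 ^ (10 * w.length) := by
      rw [show (1024 : ℕ) = 2 ^ 10 by norm_num, ← pow_mul]
    have h2 : W - 2 = 10 * w.length + 3 := by rw [hW, lanesOf]; omega
    rw [h1, h2, pow_add]
    have := Nat.two_pow_pos (10 * w.length)
    omega
  have hW3 : 2 ^ (W - 2) ≤ B := Nat.pow_le_pow_right (by norm_num) (Nat.sub_le _ _)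
  have hfb : ∀ k < n, f k < B := by
    intro k hk
    simp only [f, dif_pos hk]
    have h1 : P i ⟨k, hk⟩ ≤ 1024 ^ w.length :=
      le_trans (Finset.single_le_sum (f := fun k => P i k) (fun _ _ => Nat.zero_le _) (Finset.mem_univ _)) hs
    split_ifs <;> omega
  have hqlt : (∑ k ∈ Finset.range n, f k * B ^ k) / 5 < B ^ n := lt_of_le_of_lt (hq ▸ Nat.and_le_right) hC
  have hqd : ∀ k < n, (∑ k ∈ Finset.range n, f k * B ^ k) / 5 / B ^ k % B ≤ 2 ^ (W - 3) - 1 := by
    intro k hk
    rw [← hq, hB]
    exact le_trans (MatCheck.digit_and_le _ _ W k) (le_of_eq (Nat.eq_of_beq_eq_true (hCd k hk)))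
  have hB8 : B = 8 * 2 ^ (W - 3) := by
    rw [hB, show (8 : ℕ) = 2 ^ 3 by norm_num, ← pow_add]
    congr 1
    rw [hW, lanesOf]
    omega
  set X := ∑ k ∈ Finset.range n, f k * B ^ k with hX
  have hXq : X = ∑ k ∈ Finset.range n, (5 * (X / 5 / B ^ k % B)) * B ^ k := by
    conv_lhs => rw [← Nat.div_add_mod X 5, hmod, add_zero, MatCheck.eq_sum_digits B n _ hqlt, Finset.mul_sum]
    exact Finset.sum_congr rfl fun k _ => by ring
  have e1 := MatCheck.digit_sum B n f j hfb j.2
  have e2 := MatCheck.digit_sum B n (fun k => 5 * (X / 5 / B ^ k % B)) j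
    (fun k hk => by have := hqd k hk; have := Nat.two_pow_pos (W - 3); omega) j.2
  rw [← hX] at e1
  rw [← hXq, e1] at e2
  have hcast : ((f j : ℕ) : ZMod 5) = 0 := by
    rw [e2, Nat.cast_mul, show ((5 : ℕ) : ZMod 5) = 0 from ZMod.natCast_self 5, zero_mul]
  simp only [f, Fin.is_lt, dite_true, Nat.cast_add] at hcast
  rw [RingHom.mapMatrix_apply, Matrix.map_apply, Matrix.one_apply]
  have h4 : ((4 : ℕ) : ZMod 5) = -1 := by decide
  by_cases hij : i = j
  · subst hij
    rw [if_pos rfl, h4, ← sub_eq_add_neg, sub_eq_zero] at hcast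
    rw [if_pos rfl]
    exact hcast
  · rw [if_neg (fun e => hij (Fin.ext e.symm)), Nat.cast_zero, add_zero] at hcast
    rw [if_neg hij]
    exact hcast

end CfsgLib.LyRep
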