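import Cfsg.Agent.Lib.LyRep.Rep
import Mathlib.Data.ZMod.Basic
import Mathlib.Algebra.Field.ZMod
import Mathlib.GroupTheory.OrderOfElement

/-!
The image of the representation of dimension 111 of the presented Lyons group, as a finite group of units.
-/
set_option autoImplicit false

namespace CfsgLib.LyRep

/-- the representation with values in the units -/
noncomputable def rhoU : Cfsg.Spor.Ly →* (Matrix (Fin 111) (Fin 111) (ZMod 5))ˣ := PresentedGroup.toGroup img_kills

theorem rho_eq (x : Cfsg.Spor.Ly) : rho x = (rhoU x : Matrix (Fin 111) (Fin 111) (ZMod 5)) := rfl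

theorem rhoU_of (g : Cfsg.Spor.Ly.Gen) : rhoU (PresentedGroup.mk _ (FreeGroup.of g)) = img g :=
  PresentedGroup.toGroup.of img_kills

/-- the image -/
noncomputable def imgGroup : Subgroup (Matrix (Fin 111) (Fin 111) (ZMod 5))ˣ := rhoU.range

theorem img_mem (g : Cfsg.Spor.Ly.Gen) : img g ∈ imgGroup := ⟨_, rhoU_of g⟩

instance imgGroup_finite : Finite imgGroup := inferInstance

/-- A unit whose matrix is the product of a word of generator matrices lies in the image. -/
theorem mem_of_word (u : (Matrix (Fin 111) (Fin 111) (ZMod 5))ˣ) (w : List (Cfsg.Spor.Ly.Gen × Bool))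
    (h : (u : Matrix (Fin 111) (Fin 111) (ZMod 5)) =
      (w.map fun x => CfsgLib.LyTwo.mat 111 111 (Cert.letterMat x)).prod) : u ∈ imgGroup := by
  have he : u = (w.map fun x => cond x.2 (img x.1) (img x.1)⁻¹).prod := by
    refine Units.ext ?_
    rw [h, ← Units.coeHom_apply, map_list_prod, List.map_map]
    exact congrArg List.prod (List.map_congr_left fun x _ => (img_letter x).symm)
  rw [he]
  refine Subgroup.list_prod_mem _ fun y hy => ?_
  obtain ⟨⟨g, b⟩, -, rfl⟩ := List.mem_map.mp hy
  cases b
  · exact imgGroup.inv_mem (img_mem g)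
  · exact img_mem g

end CfsgLib.LyRep
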