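import Cfsg.Agent.Lib.LyRep.Image
import Cfsg.Agent.Lib.LyRep.Primes.Check11
import Cfsg.Agent.Lib.LyRep.Primes.Check37
import Cfsg.Agent.Lib.LyRep.Primes.Check67
import Mathlib.GroupTheory.Index

/-!
Elements of order 11, 37 and 67 in the image of the representation of the Lyons group.
-/
set_option autoImplicit false
set_option maxRecDepth 100000

namespace CfsgLib.LyRep

open CfsgLib.LyTwo

/-- A power checked in two stages. -/
theorem pow_check (a m b : ℕ) (C D Di : List ℕ) (h1 : wordCheck 111 (List.replicate a C ++ [Di]) = true)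
    (h2 : wordCheck 111 [Di, D] = true) (h3 : wordCheck 111 (List.replicate m D ++ List.replicate b C) = true) :
    mat 111 111 C ^ (a * m + b) = 1 := by
  have e1 := wordCheck_spec le_rfl h1
  have e2 := wordCheck_spec le_rfl h2
  have e3 := wordCheck_spec le_rfl h3
  simp only [List.map_append, List.map_replicate, List.prod_append, List.prod_replicate, List.map_cons,
    List.map_nil, List.prod_cons, List.prod_nil, mul_one] at e1 e2 e3
  have hD : mat 111 111 C ^ a = mat 111 111 D := by
    calc mat 111 111 C ^ a = mat 111 111 C ^ a * (mat 111 111 Di * mat 111 111 D) := by rw [e2, mul_one]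
      _ = mat 111 111 D := by rw [← mul_assoc, e1, one_mul]
  rw [pow_add, pow_mul, hD, e3]

/-- A word whose value is a stored matrix of order `p`, not the identity, gives a divisor of the order. -/
theorem dvd_of_cert (p : ℕ) (hp : p.Prime) (w : List (Cfsg.Spor.Ly.Gen × Bool)) (C Ci : List ℕ)
    (hw : wordCheck 111 (w.map Cert.letterMat ++ [Ci]) = true) (hc : wordCheck 111 [Ci, C] = true)
    (hpow : mat 111 111 C ^ p = 1) (i j : Fin 111)
    (hne : ((ent C i j : ℕ) : ZMod 5) ≠ if i = j then 1 else 0) : p ∣ Nat.card imgGroup := by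
  have h1 := wordCheck_spec le_rfl hw
  have h2 := wordCheck_spec le_rfl hc
  have h3 := hpow
  simp only [List.map_append, List.prod_append, List.map_cons, List.map_nil, List.prod_cons, List.prod_nil,
    mul_one] at h1 h2
  rw [List.map_map] at h1
  let v : Matrix (Fin 111) (Fin 111) (ZMod 5) := (w.map (mat 111 111 ∘ Cert.letterMat)).prod
  have hv : v = mat 111 111 C := by
    calc v = v * (mat 111 111 Ci * mat 111 111 C) := by rw [h2, mul_one]
      _ = mat 111 111 C := by rw [← mul_assoc, h1, one_mul]
  let u : (Matrix (Fin 111) (Fin 111) (ZMod 5))ˣ := (w.map fun x => cond x.2 (img x.1) (img x.1)⁻¹).prod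
  have hu : (u : Matrix (Fin 111) (Fin 111) (ZMod 5)) = mat 111 111 C := by
    rw [← hv, ← Units.coeHom_apply, map_list_prod, List.map_map]
    exact congrArg List.prod (List.map_congr_left fun x _ => img_letter x)
  have hmem : u ∈ imgGroup := mem_of_word u w (hu.trans hv.symm)
  have hup : u ^ p = 1 := Units.ext (by rw [Units.val_pow_eq_pow_val, hu, h3, Units.val_one])
  have hu1 : u ≠ 1 := by
    intro h
    rw [h, Units.val_one] at hu
    refine hne ?_
    have := congrFun (congrFun hu i) j
    rw [Matrix.one_apply] at this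
    exact this.symm
  have : Fact p.Prime := ⟨hp⟩
  rw [← orderOf_eq_prime hup hu1, ← Subgroup.orderOf_mk u hmem]
  exact orderOf_dvd_natCard _

theorem eleven_part : 11 ∣ Nat.card imgGroup :=
  dvd_of_cert 11 (by norm_num) [(.z, true), (.b, true), (.c, true), (.z, true), (.c, true), (.d, true)] _ _ check11 inv11
    (by rw [← List.prod_replicate, ← List.map_replicate]; exact wordCheck_spec le_rfl pow11) 0 1 (by decide +kernel)

theorem thirtyseven_part : 37 ∣ Nat.card imgGroup :=
  dvd_of_cert 37 (by norm_num) [(.a, true), (.c, true), (.z, true), (.d, true)] _ _ check37 inv37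
    (pow_check 8 4 5 _ _ _ pow37a pow37b pow37c) 0 0 (by decide +kernel)

theorem sixtyseven_part : 67 ∣ Nat.card imgGroup :=
  dvd_of_cert 67 (by norm_num) [(.c, true), (.z, true), (.d, true), (.z, true), (.b, true)] _ _ check67 inv67
    (pow_check 8 8 3 _ _ _ pow67a pow67b pow67c) 0 0 (by decide +kernel)

end CfsgLib.LyRep
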