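import Cfsg.Agent.Lib.LyRep.Cert.Tables
import Mathlib.LinearAlgebra.Matrix.GeneralLinearGroup.Defs

/-!
The representation of dimension 111 of the presented Lyons group over the field with five elements.
-/
set_option autoImplicit false
set_option maxRecDepth 100000

namespace CfsgLib.LyRep

open CfsgLib.LyTwo

theorem mat_m0 : mat 111 111 CfsgLib.LyTwo.Cert.m0 = 1 := mat_node_zero

/-- the image of a generator -/
def img (g : Cfsg.Spor.Ly.Gen) : (Matrix (Fin 111) (Fin 111) (ZMod 5))ˣ :=
  ⟨mat 111 111 (Cert.letterMat (g, true)), mat 111 111 (Cert.letterMat (g, false)),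
    (mulCheck_spec le_rfl (Cert.inverse_ok g true)).trans mat_m0,
    (mulCheck_spec le_rfl (Cert.inverse_ok g false)).trans mat_m0⟩

theorem img_letter (x : Cfsg.Spor.Ly.Gen × Bool) :
    ((cond x.2 (img x.1) (img x.1)⁻¹ : (Matrix (Fin 111) (Fin 111) (ZMod 5))ˣ) : Matrix (Fin 111) (Fin 111) (ZMod 5)) =
      mat 111 111 (Cert.letterMat x) := by
  obtain ⟨g, b⟩ := x
  cases b <;> rfl

theorem img_kills : ∀ r ∈ Cfsg.Spor.coxRelators Cfsg.Spor.Ly.edges ∪ {r | r ∈ Cfsg.Spor.Ly.extra},
    FreeGroup.lift img r = 1 := by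
  rintro r (⟨x, hx, -⟩ | hr)
  · exact absurd hx (by simp [Cfsg.Spor.coxNodes, Cfsg.Spor.Ly.edges])
  · have hw : r.toWord ∈ Cert.relWords := Cert.relWords_eq ▸ List.mem_map_of_mem hr
    have h := wordCheck_spec le_rfl (Cert.relWords_ok _ hw)
    refine Units.ext ?_
    rw [Units.val_one, ← h, ← FreeGroup.mk_toWord (x := r), FreeGroup.lift_mk, FreeGroup.mk_toWord,
      ← Units.coeHom_apply, map_list_prod, List.map_map, List.map_map]
    exact congrArg List.prod (List.map_congr_left fun x _ => img_letter x)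

/-- the representation -/
noncomputable def rho : Cfsg.Spor.Ly →* Matrix (Fin 111) (Fin 111) (ZMod 5) :=
  (Units.coeHom _).comp (PresentedGroup.toGroup img_kills)

theorem rho_of (g : Cfsg.Spor.Ly.Gen) :
    rho (PresentedGroup.mk _ (FreeGroup.of g)) = mat 111 111 (Cert.letterMat (g, true)) :=
  congrArg Units.val (PresentedGroup.toGroup.of img_kills)

end CfsgLib.LyRep
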