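import Cfsg.Agent.Lib.LyRep.Three.Orbits

/-!
The 3-part of the image of the presented Lyons group: `3 ^ 7` divides its order.
-/
set_option autoImplicit false
set_option maxRecDepth 100000

namespace CfsgLib.LyRep

open Three

set_option maxHeartbeats 400000 in
theorem three_part : 3 ^ 7 ∣ Nat.card imgGroup := by
  have m0 : ∀ p ∈ gens0, InImg p.1 := by
    simp only [gens0, List.forall_mem_cons, List.not_mem_nil, IsEmpty.forall_iff, implies_true, and_true]
    exact ⟨w4p5_mem, w5p6_mem, w6p7_mem, g32_mem, g53_mem, g63_mem, g534_mem, g562_mem, g10_mem, g56210_mem⟩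
  have m1 : ∀ p ∈ gens1, InImg p.1 := by
    simp only [gens1, List.forall_mem_cons, List.not_mem_nil, IsEmpty.forall_iff, implies_true, and_true]
    exact ⟨w4p5_mem, g32_mem, g53_mem, g63_mem, g534_mem, g562_mem, g10_mem, g56210_mem⟩
  have m2 : ∀ p ∈ gens2, InImg p.1 := by
    simp only [gens2, List.forall_mem_cons, List.not_mem_nil, IsEmpty.forall_iff, implies_true, and_true]
    exact ⟨g534_mem, g562_mem, g10_mem, g56210_mem⟩
  have m3 : ∀ p ∈ gens3, InImg p.1 := by
    simp only [gens3, List.forall_mem_cons, List.not_mem_nil, IsEmpty.forall_iff, implies_true, and_true]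
    exact ⟨g10_mem, g562_mem, g56210_mem⟩
  have m4 : ∀ p ∈ gens4, InImg p.1 := by
    simp only [gens4, List.forall_mem_cons, List.not_mem_nil, IsEmpty.forall_iff, implies_true, and_true]
    exact g56210_mem
  have e0 : gens0.map Prod.fst = [w4p5, w5p6, w6p7, g32, g53, g63, g534, g562, g10, g56210] := rfl
  have l0 : 3 * Nat.card (grp [w4p5, g32, g53, g63, g534, g562, g10, g56210]) ∣ Nat.card (grp [w4p5, w5p6, w6p7, g32, g53, g63, g534, g562, g10, g56210]) := by
    have h := level_spec level0_ok m0
    rw [e0] at h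
    exact h
  have e1 : gens1.map Prod.fst = [w4p5, g32, g53, g63, g534, g562, g10, g56210] := rfl
  have l1 : 27 * Nat.card (grp [g534, g562, g10, g56210]) ∣ Nat.card (grp [w4p5, g32, g53, g63, g534, g562, g10, g56210]) := by
    have h := level_spec level1_ok m1
    rw [e1] at h
    exact h
  have e2 : gens2.map Prod.fst = [g534, g562, g10, g56210] := rfl
  have l2 : 3 * Nat.card (grp [g10, g562, g56210]) ∣ Nat.card (grp [g534, g562, g10, g56210]) := by
    have h := level_spec level2_ok m2
    rw [e2] at h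
    exact h
  have e3 : gens3.map Prod.fst = [g10, g562, g56210] := rfl
  have l3 : 3 * Nat.card (grp [g56210]) ∣ Nat.card (grp [g10, g562, g56210]) := by
    have h := level_spec level3_ok m3
    rw [e3] at h
    exact h
  have e4 : gens4.map Prod.fst = [g56210] := rfl
  have l4 : 3 * Nat.card (grp []) ∣ Nat.card (grp [g56210]) := by
    have h := level_spec level4_ok m4
    rw [e4] at h
    exact h
  have d4 := (dvd_mul_right 3 _).trans l4
  have d3 := (Nat.mul_dvd_mul_left 3 d4).trans l3
  have d2 := (Nat.mul_dvd_mul_left 3 d3).trans l2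
  have d1 := (Nat.mul_dvd_mul_left 27 d2).trans l1
  have d0 := (Nat.mul_dvd_mul_left 3 d1).trans l0
  have hle : grp [w4p5, w5p6, w6p7, g32, g53, g63, g534, g562, g10, g56210] ≤ imgGroup := e0 ▸ grp_le fun g hg => by
    obtain ⟨p, hp, rfl⟩ := List.mem_map.mp hg
    exact m0 p hp
  have h7 : (3 : ℕ) ^ 7 = 3 * (27 * (3 * (3 * 3))) := by norm_num
  rw [h7]
  exact d0.trans (Subgroup.card_dvd_of_le hle)

end CfsgLib.LyRep
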